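import Groth.Agent.AlgGrpLib.TorusIsogenyIff
import Groth.Agent.S5417
import Groth.Agent.Cochar26.SplitData
import Groth.Agent.SGA3cLib.CentralEq
import Groth.Agent.SGA3cLib.CentralFib
import Groth.Agent.TorusAb27.Basic
import Groth.Agent.MultExt26.GmBase
import Groth.Agent.SGA3UnitSec.BaseChange
import Groth.Prelude.Def_SGA3x

/-!
# Maximal tori: geometric fibres, base change of centralisers, commuting tori
-/

set_option autoImplicit false
set_option backward.isDefEq.respectTransparency.types false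
set_option linter.style.haveILetI false

universe u

open CategoryTheory CategoryTheory.Limits MonoidalCategory CartesianMonoidalCategory MonObj AlgebraicGeometry

noncomputable section

namespace Groth.Agent.MaxTorus26

open SGA3cLib

set_option maxHeartbeats 1600000
set_option synthInstance.maxHeartbeats 200000

variable {S : Scheme.{u}}

/-- The base change of a centraliser is the centraliser of the base change. -/
theorem isCentralizerOf_bc {S' : Scheme.{u}} (f : S' ⟶ S) {G H Z : Over S} [GrpObj G] [GrpObj H] [GrpObj Z]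
    {i : H ⟶ G} {j : Z ⟶ G} (h : Red.IsCentralizerOf i j) :
    Red.IsCentralizerOf ((Over.pullback f).map i) ((Over.pullback f).map j) := by
  obtain ⟨hhom, hmono, hpts⟩ := h
  haveI := hhom
  haveI := hmono
  haveI : (Over.pullback f).IsRightAdjoint := (Over.mapPullbackAdj f).isRightAdjoint
  refine ⟨inferInstanceAs (IsMonHom ((Over.pullback f).map j)), inferInstance, fun X g => ?_⟩
  obtain ⟨g, rfl⟩ := (BCPoints.pt f G X).surjective g
  constructor
  · rintro ⟨z, hz⟩ X' x h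
    obtain ⟨z, rfl⟩ := (BCPoints.pt f Z X).surjective z
    obtain ⟨h, rfl⟩ := (BCPoints.pt f H X').surjective h
    rw [← BCPoints.pt_comp, EmbeddingLike.apply_eq_iff_eq] at hz
    rw [← BCPoints.pt_comp, ← BCPoints.pt_map_comp, ← BCPoints.pt_mul, ← BCPoints.pt_mul,
      (hpts _ g).1 ⟨z, hz⟩ _ ((Over.map f).map x) h]
  · intro hcom
    obtain ⟨z, hz⟩ := (hpts _ g).2 (fun Y y h => by
      let X' : Over S' := Over.mk (y.left ≫ X.hom)
      let x : X' ⟶ X := Over.homMk y.left rfl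
      let e : (Over.map f).obj X' ≅ Y := Over.isoMk (Iso.refl _) (by
        show 𝟙 Y.left ≫ Y.hom = (y.left ≫ X.hom) ≫ f
        rw [Category.id_comp, Category.assoc]
        exact (Over.w y).symm)
      have hx : (Over.map f).map x = e.hom ≫ y := by
        apply Over.OverMorphism.ext
        show y.left = 𝟙 Y.left ≫ y.left
        rw [Category.id_comp]
      have h1 := hcom X' x (BCPoints.pt f H X' (e.hom ≫ h))
      rw [← BCPoints.pt_comp, ← BCPoints.pt_map_comp, ← BCPoints.pt_mul, ← BCPoints.pt_mul,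
        EmbeddingLike.apply_eq_iff_eq, hx, Category.assoc, Category.assoc, ← MonObj.comp_mul, ← MonObj.comp_mul,
        cancel_epi] at h1
      exact h1)
    exact ⟨BCPoints.pt f Z X z, by rw [← BCPoints.pt_comp, hz]⟩

/-- The geometric point of the spectrum of an algebraically closed field is an isomorphism. -/
theorem isIso_geomPt {K : Type u} [Field K] [IsAlgClosed K] (p : Spec (CommRingCat.of K)) :
    IsIso (Red.geomPt p) := by
  haveI : Surjective ((Spec (CommRingCat.of K)).fromSpecResidueField p) :=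
    ⟨fun z ↦ ⟨IsLocalRing.closedPoint _, Subsingleton.elim _ _⟩⟩
  haveI : IsClosedImmersion ((Spec (CommRingCat.of K)).fromSpecResidueField p) :=
    isClosed_singleton_iff_isClosedImmersion.1 Set.subsingleton_of_subsingleton.isClosed
  haveI : IsIso ((Spec (CommRingCat.of K)).fromSpecResidueField p) :=
    isIso_of_isClosedImmersion_of_surjective _
  let P := (Spec (CommRingCat.of K)).residueField p
  haveI : IsAlgClosed P := by
    haveI : IsIso ((Spec (CommRingCat.of K)).fromSpecResidueField p).appTop :=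
      inferInstanceAs (IsIso (Scheme.Γ.map ((Spec (CommRingCat.of K)).fromSpecResidueField p).op))
    let e : K ≃+* P := ((Scheme.ΓSpecIso (CommRingCat.of K)).symm ≪≫
      asIso ((Spec (CommRingCat.of K)).fromSpecResidueField p).appTop ≪≫ Scheme.ΓSpecIso P).commRingCatIsoToRingEquiv
    exact IsAlgClosed.of_ringEquiv K P e
  haveI : IsIso (CommRingCat.ofHom (algebraMap P (AlgebraicClosure P))) :=
    (ConcreteCategory.isIso_iff_bijective _).2 (IsAlgClosed.algebraMap_bijective_of_isIntegral)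
  infer_instance

/-- The geometric fibres of a maximal torus are maximal tori. -/
theorem isMaximalTorus_geom {T G : Over S} [GrpObj T] [GrpObj G] {i : T ⟶ G} (hi : Red.IsMaximalTorus i) (s : S) :
    Red.IsMaximalTorus (T := Red.geomFibre s T) (G := Red.geomFibre s G) ((Over.pullback (Red.geomPt s)).map i) := by
  obtain ⟨hhom, hmono, hT, hmax⟩ := hi
  haveI := hhom
  haveI := hmono
  haveI : (Over.pullback (Red.geomPt s)).IsRightAdjoint := (Over.mapPullbackAdj _).isRightAdjoint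
  refine ⟨inferInstanceAs (IsMonHom ((Over.pullback (Red.geomPt s)).map i)), inferInstance,
    TorusAb27.isTorus_bc _ T hT, fun p T' _ j _ _ f hT' hfj => ?_⟩
  haveI := isIso_geomPt (K := AlgebraicClosure (S.residueField s)) p
  let X := Spec (CommRingCat.of (AlgebraicClosure (S.residueField s)))
  let F := Over.pullback (Red.geomPt p)
  let F' := Over.pullback (inv (Red.geomPt p))
  let β : F ⋙ F' ≅ 𝟭 (Over X) :=
    GrpBC.bcCongr (Red.geomPt p) (inv (Red.geomPt p)) (𝟙 _) (IsIso.inv_hom_id _) ≪≫ Over.pullbackId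
  let β' : Over.pullback (Red.geomPt p) ⋙ F' ≅ Over.pullback (𝟙 X) :=
    GrpBC.bcCongr (Red.geomPt p) (inv (Red.geomPt p)) (𝟙 _) (IsIso.inv_hom_id _)
  haveI : F'.IsRightAdjoint := (Over.mapPullbackAdj _).isRightAdjoint
  let b : Red.bc (inv (Red.geomPt p)) (Red.geomFibre p (Red.geomFibre s G)) ≅ Red.geomFibre s G := β.app _
  let a : Red.bc (inv (Red.geomPt p)) (Red.geomFibre p (Red.geomFibre s T)) ≅ Red.geomFibre s T := β.app _
  haveI hb : IsMonHom b.hom := by
    have h1 := (GrpBC.isMonHom_app β (Red.geomFibre s G)).1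
    exact ⟨h1.one_hom.trans (Category.id_comp _),
      h1.mul_hom.trans (congrArg (_ ≫ ·) (Category.id_comp _))⟩
  let j' : Red.bc (inv (Red.geomPt p)) T' ⟶ Red.geomFibre s G := F'.map j ≫ b.hom
  haveI : IsMonHom (F'.map j) := inferInstanceAs (IsMonHom ((Over.pullback _).map j))
  haveI : IsMonHom j' := inferInstance
  haveI : Mono j' := mono_comp _ _
  have h := hmax s (Red.bc (inv (Red.geomPt p)) T') j' (a.inv ≫ F'.map f) (TorusAb27.isTorus_bc _ T' hT') (by
    show (a.inv ≫ F'.map f) ≫ F'.map j ≫ b.hom = _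
    rw [Category.assoc, ← Functor.map_comp_assoc, hfj, Iso.inv_comp_eq]
    exact β.hom.naturality ((Over.pullback (Red.geomPt s)).map i))
  haveI : IsIso a.inv := a.isIso_inv
  haveI : IsIso (F'.map f) := IsIso.of_isIso_comp_left a.inv _
  let γ' : F' ⋙ F ≅ 𝟭 _ :=
    GrpBC.bcCongr (inv (Red.geomPt p)) (Red.geomPt p) (𝟙 _) (IsIso.hom_inv_id _) ≪≫ Over.pullbackId
  exact (NatIso.isIso_map_iff γ' f).1 (Functor.map_isIso F (F'.map f))

/-- A product of tori is a torus. -/
theorem isTorus_tensor {T R : Over S} [GrpObj T] [GrpObj R] (hT : Red.IsTorus T) (hR : Red.IsTorus R) :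
    Red.IsTorus (T ⊗ R) := by
  obtain ⟨S₁, f₁, hfl₁, -, hq₁, hU₁⟩ := hT
  obtain ⟨S₂, f₂, hfl₂, -, hq₂, hU₂⟩ := hR
  let F : pullback f₁ f₂ ⟶ S := pullback.snd f₁ f₂ ≫ f₂
  haveI := hfl₁
  haveI := hfl₂
  have hF : IsFpqcCov F := (IsFpqcCov.of_forall f₂ hq₂).comp ((IsFpqcCov.of_forall f₁ hq₁).pullback_snd f₂)
  haveI := hF.1
  refine ⟨_, F, inferInstance, hF.surjective, fun V hV => BCPoints.forall_affine hF V hV, fun t => ?_⟩
  obtain ⟨U₁, ht₁, a, ⟨e₁⟩⟩ := hU₁ ((pullback.fst f₁ f₂).base t)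
  obtain ⟨U₂, ht₂, b, ⟨e₂⟩⟩ := hU₂ ((pullback.snd f₁ f₂).base t)
  let V := pullback.fst f₁ f₂ ⁻¹ᵁ U₁ ⊓ pullback.snd f₁ f₂ ⁻¹ᵁ U₂
  let g : (V : Scheme.{u}) ⟶ S := V.ι ≫ F
  obtain ⟨i₁, hi₁, -⟩ := GrpBC.nonempty_iso_restrict (U₁.ι ≫ f₁) ((pullback.fst f₁ f₂).resLE U₁ V inf_le_left) g (by
    rw [Scheme.Hom.resLE_comp_ι_assoc, pullback.condition]) T e₁
  obtain ⟨i₂, hi₂, -⟩ := GrpBC.nonempty_iso_restrict (U₂.ι ≫ f₂) ((pullback.snd f₁ f₂).resLE U₂ V inf_le_right) g (by
    rw [Scheme.Hom.resLE_comp_ι_assoc]) R e₂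
  haveI := hi₁
  haveI := hi₂
  let P' := Over.pullback g
  haveI : IsMonHom (P'.map (fst T R)) := inferInstanceAs (IsMonHom ((Over.pullback g).map (fst T R)))
  haveI : IsMonHom (P'.map (snd T R)) := inferInstanceAs (IsMonHom ((Over.pullback g).map (snd T R)))
  let f₁' : Red.bc g (T ⊗ R) ⟶ Red.bc g T := P'.map (fst T R)
  let f₂' : Red.bc g (T ⊗ R) ⟶ Red.bc g R := P'.map (snd T R)
  haveI : IsMonHom f₁' := inferInstanceAs (IsMonHom (P'.map (fst T R)))
  haveI : IsMonHom f₂' := inferInstanceAs (IsMonHom (P'.map (snd T R)))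
  obtain ⟨P, hP⟩ := Cochar26.exists_prodIso (V : Scheme.{u}) (Fin a → ℤ) (Fin b → ℤ)
  haveI := hP
  let ε : ((Fin a → ℤ) × (Fin b → ℤ)) ≃+ (Fin (a + b) → ℤ) :=
    ((LinearEquiv.sumArrowLequivProdArrow (Fin a) (Fin b) ℤ ℤ).symm.trans
      (LinearEquiv.funCongrLeft ℤ ℤ finSumFinEquiv.symm)).toAddEquiv
  let q : Red.bc g (T ⊗ R) ⟶ Red.DS (V : Scheme.{u}) (Fin (a + b) → ℤ) :=
    lift (f₁' ≫ i₁.hom) (f₂' ≫ i₂.hom) ≫ P.inv ≫ Red.DSmap (V : Scheme.{u}) ε.symm.toAddMonoidHom
  haveI : IsMonHom P.inv := inferInstance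
  haveI : IsMonHom q := inferInstance
  haveI : IsIso (lift (f₁' ≫ i₁.hom) (f₂' ≫ i₂.hom)) := by
    have h : lift (f₁' ≫ i₁.hom) (f₂' ≫ i₂.hom) =
        CartesianMonoidalCategory.prodComparison P' T R ≫ (i₁.hom ⊗ₘ i₂.hom) := by
      apply CartesianMonoidalCategory.hom_ext
      · rw [lift_fst, Category.assoc, tensorHom_fst, CartesianMonoidalCategory.prodComparison_fst_assoc]
      · rw [lift_snd, Category.assoc, tensorHom_snd, CartesianMonoidalCategory.prodComparison_snd_assoc]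
    rw [h]
    infer_instance
  haveI : IsIso (Red.DSmap (V : Scheme.{u}) ε.symm.toAddMonoidHom) :=
    ⟨Red.DSmap _ ε.toAddMonoidHom, by
      rw [Cochar26.DSmap_comp, show ε.symm.toAddMonoidHom.comp ε.toAddMonoidHom = AddMonoidHom.id _ from
        AddMonoidHom.ext fun x => ε.symm_apply_apply x, Cochar26.DSmap_id], by
      rw [Cochar26.DSmap_comp, show ε.toAddMonoidHom.comp ε.symm.toAddMonoidHom = AddMonoidHom.id _ from
        AddMonoidHom.ext fun x => ε.apply_symm_apply x, Cochar26.DSmap_id]⟩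
  haveI : IsIso q := inferInstance
  haveI : IsMonHom (asIso q).hom := inferInstanceAs (IsMonHom q)
  exact ⟨V, ⟨ht₁, ht₂⟩, a + b, ⟨Grp.mkIso' (asIso q)⟩⟩

section Field

variable {K : Type u} [Field K]

/-- Two commuting subtori of a separated algebraic group lie in a common subtorus. -/
theorem exists_torus_ge {C T R : Over (Spec (CommRingCat.of K))} [GrpObj C] [GrpObj T] [GrpObj R]
    [IsSeparated C.hom] [LocallyOfFiniteType C.hom] (hT : Red.IsTorus T) (hR : Red.IsTorus R)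
    (i : T ⟶ C) (j : R ⟶ C) [IsMonHom i] [IsMonHom j]
    (hcomm : ∀ (X : Over (Spec (CommRingCat.of K))) (t : X ⟶ T) (r : X ⟶ R),
      (t ≫ i) * (r ≫ j) = (r ≫ j) * (t ≫ i)) :
    ∃ (Q : Over (Spec (CommRingCat.of K))) (_ : GrpObj Q) (m : Q ⟶ C) (a : T ⟶ Q) (b : R ⟶ Q),
      IsMonHom m ∧ Mono m ∧ Red.IsTorus Q ∧ a ≫ m = i ∧ b ≫ m = j := by
  have hP : Red.IsTorus (T ⊗ R) := isTorus_tensor hT hR
  have hPm : SGA3x.IsMultTypeFT (T ⊗ R) := MultExt26.isMultTypeFT_of_torus _ hP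
  haveI := TrivLocus.locallyOfFinitePresentation_of_multTypeFT _ hPm
  let w : T ⊗ R ⟶ C := (fst T R ≫ i) * (snd T R ≫ j)
  haveI : IsMonHom w := BCPoints.isMonHom_of_mul w fun X x y => by
    simp only [w, MonObj.comp_mul, MonObj.mul_comp, ← Category.assoc]
    rw [_root_.mul_assoc, _root_.mul_assoc, ← _root_.mul_assoc ((y ≫ fst T R) ≫ i),
      hcomm X (y ≫ fst T R) (x ≫ snd T R), _root_.mul_assoc]
  let k := UnipStruct.kerι w
  haveI : IsClosedImmersion k.left := UnipStruct.isClosedImmersion_kerι w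
  haveI : IsMonHom k := UnipStruct.isMonHom_kerι w
  haveI : Mono k := Over.mono_of_mono_left k
  haveI : LocallyOfFiniteType (UnipStruct.kerObj w).hom := by rw [← Over.w k]; infer_instance
  have hKm : SGA3x.IsMultTypeFT (UnipStruct.kerObj w) :=
    Groth.Agent.S19598.result (UnipStruct.kerObj w) (T ⊗ R) hPm k inferInstance inferInstance inferInstance
  obtain ⟨Q, _, q, hq, hquot, -, m, hm, hmono, hqm⟩ :=
    Groth.Agent.S5417.result _ (T ⊗ R) C (Or.inl inferInstance) w (UnipStruct.kerObj w) k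
      (UnipStruct.isKernel_kerι w)
  have hQ : Red.IsTorus Q := Groth.Agent.S16615.result hP k hKm q hquot
  refine ⟨Q, inferInstance, m, lift (𝟙 T) 1 ≫ q, lift 1 (𝟙 R) ≫ q, hm, hmono, hQ, ?_, ?_⟩
  · rw [Category.assoc, hqm]
    simp only [w, MonObj.comp_mul, lift_fst_assoc, lift_snd_assoc, Category.id_comp, MonObj.one_comp, _root_.mul_one]
  · rw [Category.assoc, hqm]
    simp only [w, MonObj.comp_mul, lift_fst_assoc, lift_snd_assoc, Category.id_comp, MonObj.one_comp, _root_.one_mul]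

end Field

/-- On a geometric fibre, two commuting maximal tori coincide. -/
theorem exists_geom_iso {C T R : Over S} [GrpObj C] [GrpObj T] [GrpObj R] [IsSeparated C.hom]
    [LocallyOfFiniteType C.hom] {i : T ⟶ C} {j : R ⟶ C} (hi : Red.IsMaximalTorus i) (hj : Red.IsMaximalTorus j)
    (hcomm : ∀ (X : Over S) (c : X ⟶ C) (t : X ⟶ T), c * (t ≫ i) = (t ≫ i) * c) (s : S) :
    ∃ ψ : Red.geomFibre s T ≅ Red.geomFibre s R,
      ψ.hom ≫ (Over.pullback (Red.geomPt s)).map j = (Over.pullback (Red.geomPt s)).map i := by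
  obtain ⟨hih, -, hiT, himax⟩ := hi
  obtain ⟨hjh, -, hjT, hjmax⟩ := hj
  haveI := hih
  haveI := hjh
  let g := Red.geomPt s
  let i₀ : Red.geomFibre s T ⟶ Red.geomFibre s C := (Over.pullback g).map i
  let j₀ : Red.geomFibre s R ⟶ Red.geomFibre s C := (Over.pullback g).map j
  haveI : IsMonHom i₀ := inferInstanceAs (IsMonHom ((Over.pullback g).map i))
  haveI : IsMonHom j₀ := inferInstanceAs (IsMonHom ((Over.pullback g).map j))
  haveI : IsSeparated (Red.geomFibre s C).hom := inferInstanceAs (IsSeparated (pullback.snd C.hom g))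
  haveI : LocallyOfFiniteType (Red.geomFibre s C).hom :=
    inferInstanceAs (LocallyOfFiniteType (pullback.snd C.hom g))
  obtain ⟨Q, _, m, a, b, hm, hmono, hQ, ha, hb⟩ := exists_torus_ge (TorusAb27.isTorus_bc g T hiT)
    (TorusAb27.isTorus_bc g R hjT) i₀ j₀ (fun X t r => by
      obtain ⟨t, rfl⟩ := (BCPoints.pt g T X).surjective t
      obtain ⟨r, rfl⟩ := (BCPoints.pt g R X).surjective r
      simp only [i₀, j₀]
      rw [← BCPoints.pt_comp, ← BCPoints.pt_comp, ← BCPoints.pt_mul, ← BCPoints.pt_mul, hcomm _ (r ≫ j) t])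
  haveI := hm
  haveI := hmono
  haveI := himax s Q m a hQ ha
  haveI := hjmax s Q m b hQ hb
  refine ⟨asIso a ≪≫ (asIso b).symm, ?_⟩
  show (a ≫ inv b) ≫ j₀ = i₀
  rw [← hb, Category.assoc, IsIso.inv_hom_id_assoc, ha]

/-- A maximal torus commuting with everything is the only maximal torus. -/
theorem exists_iso_of_central {C T R : Over S} [GrpObj C] [GrpObj T] [GrpObj R] [IsSeparated C.hom]
    [LocallyOfFiniteType C.hom] {i : T ⟶ C} {j : R ⟶ C} (hi : Red.IsMaximalTorus i) (hj : Red.IsMaximalTorus j)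
    (hcomm : ∀ (X : Over S) (c : X ⟶ C) (t : X ⟶ T), c * (t ≫ i) = (t ≫ i) * c) :
    ∃ φ : R ≅ T, φ.hom ≫ i = j := by
  haveI := hi.1
  haveI := hi.2.1
  haveI := hj.1
  haveI := hj.2.1
  haveI : Mono i.left := inferInstanceAs (Mono ((Over.forget S).map i))
  haveI : Mono j.left := inferInstanceAs (Mono ((Over.forget S).map j))
  obtain ⟨U, -, hU, hgood⟩ := CentralEq.exists_clopen i j (Or.inr inferInstance)
    (MultExt26.isMultTypeFT_of_torus T hi.2.2.1) (MultExt26.isMultTypeFT_of_torus R hj.2.2.1) hcomm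
  have hall : ∀ s : S, s ∈ U := fun s => by
    obtain ⟨p⟩ : Nonempty (Spec (CommRingCat.of (AlgebraicClosure (S.residueField s)))) := inferInstance
    have h := (CentralEq.good_field i j (Red.geomPt s) p).1
      ((CentralEq.good_iff i j _).2 (exists_geom_iso hi hj hcomm s))
    have hp : (Red.geomPt s).base p = s := by
      rw [Scheme.Hom.comp_apply]; exact Scheme.fromSpecResidueField_apply _ _
    rw [hp] at h
    exact (hU s).2 h
  have hr : Set.range (𝟙 S : S ⟶ S) ⊆ Set.range U.ι := by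
    rw [Scheme.Opens.range_ι]; exact fun s _ => hall s
  have hk : IsOpenImmersion.lift U.ι (𝟙 S) hr ≫ U.ι = 𝟙 S := IsOpenImmersion.lift_fac _ _ _
  have h1 : CentralEq.Good i j (𝟙 S) :=
    @CentralEq.Good.of_comp S C T R i j (U : Scheme.{u}) S U.ι hgood (IsOpenImmersion.lift U.ι (𝟙 S) hr) (𝟙 S) hk
  obtain ⟨ψ, hψ⟩ := (CentralEq.good_iff i j _).1 h1
  let α : Over.pullback (𝟙 S) ≅ 𝟭 (Over S) := Over.pullbackId
  refine ⟨(α.app R).symm ≪≫ ψ.symm ≪≫ α.app T, ?_⟩
  show (α.inv.app R ≫ ψ.inv ≫ α.hom.app T) ≫ i = j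
  have hn : ∀ {X : Over S} (w : X ⟶ C), α.hom.app X ≫ w = (Over.pullback (𝟙 S)).map w ≫ α.hom.app C :=
    fun w => (α.hom.naturality w).symm
  rw [Category.assoc, Category.assoc, hn i,
    show ψ.inv ≫ (Over.pullback (𝟙 S)).map i ≫ α.hom.app C =
      (Over.pullback (𝟙 S)).map j ≫ α.hom.app C by rw [← hψ]; simp, ← hn j, ← Category.assoc]
  simp

end Groth.Agent.MaxTorus26
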